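import Cfsg.Agent.Spor.Chk

set_option autoImplicit false
set_option maxRecDepth 100000000
set_option Elab.async false
noncomputable section

namespace Cfsg.Agent.Spor.Suz16

def m0_0 : Nat := nat_lit 0x3
def m0_1 : Nat := nat_lit 0x30f
def m0_2 : Nat := nat_lit 0x333
def m0_3 : Nat := nat_lit 0x5000
def m0_4 : Nat := nat_lit 0x300
def m0_5 : Nat := nat_lit 0x3
def n0 : Net := Net.cons 8 m0_0 (Net.cons 4 m0_1 (Net.cons 2 m0_2 (Net.cons 1 m0_3 (Net.cons 4 m0_4 (Net.cons 8 m0_5 (Net.nil))))))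

def m1_0 : Nat := nat_lit 0x60
def m1_1 : Nat := nat_lit 0xf0c
def m1_2 : Nat := nat_lit 0x1
def m1_3 : Nat := nat_lit 0x11
def m1_4 : Nat := nat_lit 0x10
def m1_5 : Nat := nat_lit 0x3
def m1_6 : Nat := nat_lit 0x60
def n1 : Net := Net.cons 8 m1_0 (Net.cons 4 m1_1 (Net.cons 2 m1_2 (Net.cons 1 m1_3 (Net.cons 2 m1_4 (Net.cons 4 m1_5 (Net.cons 8 m1_6 (Net.nil)))))))

def m2_0 : Nat := nat_lit 0x9
def m2_1 : Nat := nat_lit 0x60f
def m2_2 : Nat := nat_lit 0x1100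
def m2_3 : Nat := nat_lit 0x4400
def m2_4 : Nat := nat_lit 0x1100
def m2_5 : Nat := nat_lit 0x9
def n2 : Net := Net.cons 8 m2_0 (Net.cons 4 m2_1 (Net.cons 2 m2_2 (Net.cons 1 m2_3 (Net.cons 2 m2_4 (Net.cons 8 m2_5 (Net.nil))))))

def ip1 : List Nat := [0x95ea, 0x2f7c, 0xd080]
def l1 : Let := ⟨0, false, 0xffff, 0x2, [0x3fc2, 0xfffc]⟩

def ip2 : List Nat := [0xb694, 0x6000]
def l2 : Let := ⟨1, false, 0xffff, 0x9694, [0x9694, 0x6000]⟩

def ip3 : List Nat := [0xe968, 0x9000]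
def l3 : Let := ⟨2, false, 0xffff, 0x6968, [0x6968, 0x9000]⟩

def NT : List Net := [n0, n1, n2]
def LT : List Let := [⟨0, false, 0, 0, []⟩, l1, l2, l3]
def T : Tab := ⟨NT, LT⟩
def EX : List (List Nat) := [[], [0], [2], [4]]
def RL : List (List Nat) := [[0, 2, 0, 2], [0, 4, 0, 4], [2, 4, 2, 4, 2, 4, 2, 4, 2, 4, 2, 4, 2, 4, 2, 4], [0, 4, 2, 4, 2, 4, 2, 4, 2]]
def XL : List (List Nat) := []
def BW : List (List Nat) := []
def IV : Nat := 0x3020100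
def L : List Nat := [1, 2, 3]
def gs : List Nat := [1, 2, 3]
def base : List Nat := []

end Cfsg.Agent.Spor.Suz16
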